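import Groth.Agent.S10908
import Groth.Agent.Lib.RegTilde27.Free
import Groth.Agent.Lib.GrNoeth9.Basic
import Groth.Agent.Lib.GrTilde.Mul
import Groth.Agent.Lib.CMReg.Koszul
import Groth.Agent.Lib.ProjCoh.Generic
import Groth.Prelude.Def_GrMod2
import Mathlib.RingTheory.Polynomial.RationalRoot
import Mathlib.RingTheory.Polynomial.UniqueFactorization

/-!
# Homogeneous elements as sections of the twists of `M~` on projective space
-/

set_option autoImplicit false
set_option backward.isDefEq.respectTransparency false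
universe u

open AlgebraicGeometry CategoryTheory CategoryTheory.Limits CategoryTheory.Abelian MvPolynomial Opposite TopologicalSpace
open GrothLib.GrTilde (evM evM_ext)

noncomputable section

namespace RegCorr27

open RegTilde27

/-- First cohomology of the first term vanishes when sections lift. -/
theorem subsingleton_X₁_one {X : Scheme.{u}} {S : ShortComplex X.Modules} (hS : S.ShortExact)
    (hsurj : Function.Surjective (S.g.app ⊤)) (h₂ : Subsingleton (Coh.HH X S.X₂ 1)) :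
    Subsingleton (Coh.HH X S.X₁ 1) := by
  refine subsingleton_of_forall_eq 0 fun x => ?_
  obtain ⟨y, hy⟩ := Ext.covariant_sequence_exact₁ _ (GrothLib.QCoh.toAbFun_map_shortExact S hS)
    (show Ext.{u} _ (S.map (GrothLib.QCoh.toAbFun X)).X₁ 1 from x) (Subsingleton.elim (α := Coh.HH X S.X₂ 1) _ _) rfl
  obtain ⟨s, hs⟩ := hsurj (GrothLib.ProjCoh.H0top S.X₃ (show Coh.HH X S.X₃ 0 from y))
  have hy' : (show Coh.HH X S.X₃ 0 from y) =
      Sheaf.H.map ((GrothLib.QCoh.toAbFun X).map S.g) 0 ((GrothLib.ProjCoh.H0top S.X₂).symm s) := by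
    apply (GrothLib.ProjCoh.H0top S.X₃).injective
    refine Eq.trans ?_ (GrothLib.ProjCoh.H0top_map ((GrothLib.QCoh.toAbFun X).map S.g) _).symm
    rw [AddEquiv.apply_symm_apply]
    exact hs.symm
  rw [← hy]
  let z : Ext.{u} _ (S.map (GrothLib.QCoh.toAbFun X)).X₂ 0 := (GrothLib.ProjCoh.H0top S.X₂).symm s
  have hy'' : y = z.comp (Ext.mk₀ (S.map (GrothLib.QCoh.toAbFun X)).g) (add_zero 0) := hy'
  rw [hy'', Ext.comp_assoc_of_second_deg_zero,
    (GrothLib.QCoh.toAbFun_map_shortExact S hS).comp_extClass, Ext.comp_zero]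

variable {k : Type u} [Field k] {r : ℕ}

variable {M : Type u} [AddCommGroup M] [Module k M] [Module (Pol k r) M]

/-- `M(n)~`. -/
abbrev T (ℳ : ℕ → Submodule k M) [SetLike.GradedSMul (CohB1.polyGrading r k) ℳ] (n : ℤ) :
    (CohB1.ProjSpace r k).Modules :=
  _root_.GrTilde.tilde (CohB1.polyGrading r k) ℳ n

/-- The section of a homogeneous element. -/
def secOf (ℳ : ℕ → Submodule k M) [SetLike.GradedSMul (CohB1.polyGrading r k) ℳ] {i : ℕ} (m : M) (hm : m ∈ ℳ i) :
    Γ(T (r := r) ℳ (i : ℤ), ⊤) :=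
  _root_.GrTilde.globalOf (CohB1.polyGrading r k) ℳ ⟨m, hm⟩

theorem evM_secOf (ℳ : ℕ → Submodule k M) [SetLike.GradedSMul (CohB1.polyGrading r k) ℳ] {i : ℕ} (m : M)
    (hm : m ∈ ℳ i) (y : (⊤ : (Proj (CohB1.polyGrading r k)).Opens)) :
    evM y (secOf ℳ m hm) = LocalizedModule.mk m 1 := rfl

theorem secOf_congr (ℳ : ℕ → Submodule k M) [SetLike.GradedSMul (CohB1.polyGrading r k) ℳ] {i : ℕ} {m m' : M}
    (h : m = m') (hm : m ∈ ℳ i) (hm' : m' ∈ ℳ i) : secOf (r := r) ℳ m hm = secOf ℳ m' hm' := by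
  subst h; rfl

theorem secOf_zero (ℳ : ℕ → Submodule k M) [SetLike.GradedSMul (CohB1.polyGrading r k) ℳ] (i : ℕ)
    (hm : (0 : M) ∈ ℳ i) : secOf (r := r) ℳ (i := i) 0 hm = 0 :=
  evM_ext fun y => by
    rw [evM_secOf, GrothLib.GrTilde.evM_zero, LocalizedModule.zero_mk]

theorem map_secOf {M' : Type u} [AddCommGroup M'] [Module k M'] [Module (Pol k r) M']
    (ℳ : ℕ → Submodule k M) [SetLike.GradedSMul (CohB1.polyGrading r k) ℳ]
    (ℳ' : ℕ → Submodule k M') [SetLike.GradedSMul (CohB1.polyGrading r k) ℳ'] {f : M →ₗ[Pol k r] M'}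
    (hf : IsShift ℳ ℳ' f 0) {i : ℕ} (m : M) (hm : m ∈ ℳ i) (hm' : f m ∈ ℳ' i) :
    (RegTilde27.map (𝒜 := CohB1.polyGrading r k) hf (add_zero (i : ℤ))).app ⊤ (secOf ℳ m hm) = secOf ℳ' (f m) hm' := by
  refine evM_ext fun y => ?_
  rw [RegTilde27.map_app, RegTilde27.evM_mapSect, evM_secOf, evM_secOf, locLin_mk]

/-- The generic point. -/
def genPt (k : Type u) [Field k] (r : ℕ) : ProjectiveSpectrum (CohB1.polyGrading r k) :=
  ⟨⊥, Ideal.isPrime_bot, fun h => MvPolynomial.X_ne_zero (R := k) (0 : Fin (r + 1))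
    (Ideal.mem_bot.1 (h (HomogeneousIdeal.mem_irrelevant_of_mem _ one_pos (GrothLib.Ample.ProjMap.X_mem 0))))⟩

theorem polyGrading_one_mul (i : ℕ) :
    CohB1.polyGrading r k 1 * CohB1.polyGrading r k i = CohB1.polyGrading r k (i + 1) := by
  show MvPolynomial.homogeneousSubmodule (Fin (r + 1)) k 1 * MvPolynomial.homogeneousSubmodule _ k i = _
  have h : ∀ n : ℕ, (MvPolynomial.homogeneousSubmodule (Fin (r + 1)) k 1) ^ n =
      MvPolynomial.homogeneousSubmodule (Fin (r + 1)) k n := fun n => by simp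
  rw [← h i, ← pow_succ', h]

theorem isIntegrallyClosed_pol (k : Type u) [Field k] (r : ℕ) : IsIntegrallyClosed (Pol k r) :=
  @UniqueFactorizationMonoid.instIsIntegrallyClosed _ _ _ (MvPolynomial.uniqueFactorizationMonoid _)

/-- Sections of twisted free modules come from homogeneous elements. -/
theorem surjective_secOf_free {b : ℕ} (deg : Fin b → ℤ) (e : ℕ) (he : ∀ j, deg j ≤ (e : ℤ))
    (σ : Γ(T (r := r) (natFam (fam (k := k) (r := r) deg)) (e : ℤ), ⊤)) :
    ∃ (v : Fin b → Pol k r) (hv : v ∈ natFam (fam (k := k) (r := r) deg) e), secOf _ v hv = σ := by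
  have key : ∀ j : Fin b, ∃ a : Pol k r, a ∈ GrSyz.stdGr k (Fin (r + 1)) ((e : ℤ) - deg j) ∧
      ∀ y : (⊤ : (Proj (CohB1.polyGrading r k)).Opens),
        locLin (CohB1.polyGrading r k) (LinearMap.proj (R := Pol k r) (φ := fun _ : Fin b => Pol k r) j) y.1
          (evM y σ) = LocalizedModule.mk a 1 := by
    intro j
    let p : (Fin b → Pol k r) →ₗ[Pol k r] Pol k r := LinearMap.proj j
    have hp : IsShift (natFam (fam (k := k) (r := r) deg)) (CohB1.polyGrading r k) p (-deg j) := by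
      intro i v hv
      have h := (mem_fam.1 hv) j
      rcases lt_or_ge ((i : ℤ) - deg j) 0 with hlt | hge
      · exact Or.inl (GrothLib.GrSyz.eq_zero_of_mem_neg hlt h)
      · refine Or.inr ⟨((i : ℤ) - deg j).toNat, by rw [Int.toNat_of_nonneg hge]; ring, mem_stdGr_natCast.1 ?_⟩
        rw [Int.toNat_of_nonneg hge]
        exact h
    have hej : (e : ℤ) + -deg j = ((((e : ℤ) - deg j).toNat : ℕ) : ℤ) := by
      rw [Int.toNat_of_nonneg (by have := he j; omega)]; ring
    let τ := (RegTilde27.map (𝒜 := CohB1.polyGrading r k) hp hej).app ⊤ σ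
    obtain ⟨a, ha⟩ := (Groth.Agent.S10908.result (CohB1.polyGrading r k) polyGrading_one_mul
      ((Submodule.ne_bot_iff _).2 ⟨_, GrothLib.Ample.ProjMap.X_mem 0, MvPolynomial.X_ne_zero _⟩)
      (isIntegrallyClosed_pol k r) (((e : ℤ) - deg j).toNat)).2 τ
    refine ⟨(a : Pol k r), ?_, fun y => ?_⟩
    · have h := mem_stdGr_natCast.2 a.2
      rwa [Int.toNat_of_nonneg (by have := he j; omega)] at h
    · exact (congrArg (evM y) ha).symm
  choose a ha hval using key
  refine ⟨a, mem_fam.2 ha, evM_ext fun y => ?_⟩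
  rw [evM_secOf]
  revert hval
  generalize hq : evM y σ = q
  intro hval
  have hval' : ∀ j, locLin (CohB1.polyGrading r k) (LinearMap.proj (R := Pol k r) (φ := fun _ : Fin b => Pol k r) j)
      y.1 q = LocalizedModule.mk (a j) 1 := fun j => by rw [← hq]; exact hval j y
  induction q using LocalizedModule.induction_on with
  | _ v s =>
    refine LocalizedModule.mk_eq.2 ⟨1, funext fun j => ?_⟩
    have h := hval' j
    rw [locLin_mk] at h
    obtain ⟨⟨c, hc⟩, hc'⟩ := LocalizedModule.mk_eq.1 h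
    have hc0 : c ≠ 0 := fun h0 => hc (by rw [h0]; exact zero_mem _)
    simp only [one_smul, Submonoid.smul_def, smul_eq_mul, LinearMap.proj_apply] at hc'
    simp only [one_smul, Submonoid.smul_def, Pi.smul_apply, smul_eq_mul]
    exact (mul_left_cancel₀ hc0 hc').symm

theorem eq_zero_of_secOf_eq_zero {b : ℕ} (deg : Fin b → ℤ) (P : Submodule (Pol k r) (Fin b → Pol k r)) {e : ℕ}
    {v : P} (hv : v ∈ natFam (subFam deg P) e) (h : secOf (r := r) (natFam (subFam deg P)) v hv = 0) : v = 0 := by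
  have h' : LocalizedModule.mk v (1 : (genPt k r).asHomogeneousIdeal.toIdeal.primeCompl) = 0 :=
    congrArg (evM (⟨genPt k r, trivial⟩ : (⊤ : (Proj (CohB1.polyGrading r k)).Opens))) h |>.trans
      (GrothLib.GrTilde.evM_zero _)
  rw [← LocalizedModule.zero_mk (1 : (genPt k r).asHomogeneousIdeal.toIdeal.primeCompl)] at h'
  obtain ⟨⟨c, hc⟩, hc'⟩ := LocalizedModule.mk_eq.1 h'
  have hc0 : c ≠ 0 := fun h0 => hc (by rw [h0]; exact zero_mem _)
  simp only [one_smul, Submonoid.smul_def, smul_zero] at hc'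
  refine Subtype.ext (funext fun j => ?_)
  have := congrFun (congrArg Subtype.val hc') j
  simp only [Submodule.coe_smul, Pi.smul_apply, smul_eq_mul, ZeroMemClass.coe_zero, Pi.zero_apply] at this ⊢
  exact (mul_eq_zero.1 this).resolve_left hc0

/-- The cohomology of `M~(n)` and of `M(n)~` agree. -/
theorem subsingleton_T_iff (ℳ : ℕ → Submodule k M) [SetLike.GradedSMul (CohB1.polyGrading r k) ℳ] (n : ℤ)
    (i : ℕ) :
    Subsingleton (Coh.HH (CohB1.ProjSpace r k) (GrothLib.CMReg.Ft (til (r := r) ℳ) n) i) ↔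
      Subsingleton (Coh.HH (CohB1.ProjSpace r k) (T (r := r) ℳ n) i) := by
  obtain ⟨e⟩ := GrothLib.GrTilde.nonempty_tensor_iso (𝒜 := CohB1.polyGrading r k) (ℳ := ℳ)
    GrothLib.CMReg.h1 (zero_add n)
  exact ⟨GrothLib.CMReg.subsingleton_of_iso e, GrothLib.CMReg.subsingleton_of_iso e.symm⟩

theorem subsingleton_T_free {b : ℕ} (deg : Fin b → ℤ) (n : ℤ) (i : ℕ) (hi : 1 ≤ i)
    (h : ∀ j, -(i : ℤ) ≤ n - deg j) :
    Subsingleton (Coh.HH (CohB1.ProjSpace r k) (T (r := r) (natFam (fam (k := k) (r := r) deg)) n) i) :=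
  (subsingleton_T_iff _ n i).1 (subsingleton_free b deg n i hi h)

end RegCorr27
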