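import Groth.Agent.Lib.RegCorr27.Step
import Groth.Agent.Lib.GrTilde.Graded
import Groth.Agent.Lib.GrLC.RegApp
import Groth.Agent.Lib.GrSyz.Gens

/-!
# Regularity from the sheaf, and surjectivity of sections of regular modules
-/

set_option autoImplicit false
set_option backward.isDefEq.respectTransparency false
universe u

open AlgebraicGeometry CategoryTheory CategoryTheory.Limits MvPolynomial

noncomputable section

namespace RegCorr27

open RegTilde27

variable {k : Type u} [Field k] {r : ℕ}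
variable {M : Type u} [AddCommGroup M] [Module k M] [Module (Pol k r) M]

section

variable {N : Type u} [AddCommGroup N] [Module k N] [Module (Pol k r) N]
variable {b : ℕ} {deg : Fin b → ℤ} {g : (Fin b → Pol k r) →ₗ[Pol k r] N}
variable {𝒩 : ℤ → Submodule k N} [SetLike.GradedSMul (CohB1.polyGrading r k) (natFam 𝒩)]

/-- Vanishing for the image from the free term and the kernel. -/
theorem Pres.van_X₃ (P : Pres deg g 𝒩) (t : ℤ) (q : ℕ) (hq : 1 ≤ q) (hdeg : ∀ j, -(q : ℤ) ≤ t - deg j)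
    (h₁ : Subsingleton (Coh.HH (CohB1.ProjSpace r k) (T (r := r) (natFam (subFam deg (LinearMap.ker g))) t) (q + 1))) :
    Subsingleton (Coh.HH (CohB1.ProjSpace r k) (T (r := r) (natFam 𝒩) t) q) :=
  have h' : Subsingleton (Coh.HH (CohB1.ProjSpace r k) (P.seq t).X₁ (q + 1)) := h₁
  have h'' : Subsingleton (Coh.HH (CohB1.ProjSpace r k) (P.seq t).X₂ q) := subsingleton_T_free deg t q hq hdeg
  GrothLib.CMReg.subsingleton_X₃ (X := CohB1.ProjSpace r k) (S := P.seq t) (P.shortExact t) h'' h'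

end

section Res

variable {ℳ : ℤ → Submodule k M} [DirectSum.Decomposition ℳ]
  [SetLike.GradedSMul (GrSyz.stdGr k (Fin (r + 1))) ℳ]
  (F : GrSyz.FreeRes (GrSyz.stdGr k (Fin (r + 1))) ℳ)

/-- The differential onto the kernel of the augmentation. -/
def d0 : (Fin (F.rk 1) → Pol k r) →ₗ[Pol k r] LinearMap.ker F.augLin :=
  (F.dLin 0).codRestrict _ fun v => F.exact_zero.ge ⟨v, rfl⟩

/-- The differential onto the kernel of the previous one. -/
def dS (i : ℕ) : (Fin (F.rk (i + 2)) → Pol k r) →ₗ[Pol k r] LinearMap.ker (F.dLin i) :=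
  (F.dLin (i + 1)).codRestrict _ fun v => (F.exact_succ i).ge ⟨v, rfl⟩

theorem pres_of_exact {p q : ℕ} {dp : Fin p → ℤ} {dq : Fin q → ℤ} {A : Matrix (Fin q) (Fin p) (Pol k r)}
    (hA : GrothLib.GrSyz.MatHom dq dp A) (K : Submodule (Pol k r) (Fin q → Pol k r))
    (hK : K = LinearMap.range (Matrix.mulVecLin A)) (G : (Fin p → Pol k r) →ₗ[Pol k r] K)
    (hG : ∀ v, (G v).1 = A.mulVec v) : Pres dp G (subFam dq K) where
  deg_mem j v hv := by
    refine mem_fam.2 ?_
    show GrothLib.GrSyz.FreeHom dq j (G v).1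
    rw [hG]
    exact GrothLib.GrSyz.freeHom_mulVec _ hA (mem_fam.1 hv)
  lift j m hm := by
    obtain ⟨w, hw⟩ := hK.le m.2
    refine ⟨GrothLib.GrSyz.fc dp j w, mem_fam.2 (GrothLib.GrSyz.freeHom_fc _ _ _), Subtype.ext ?_⟩
    rw [hG, ← GrothLib.GrSyz.fc_mulVec _ hA, show A.mulVec w = m.1 from hw]
    exact GrothLib.GrSyz.fc_of_freeHom _ (mem_fam.1 hm)
  surj m := by
    obtain ⟨w, hw⟩ := hK.le m.2
    exact ⟨w, Subtype.ext ((hG w).trans hw)⟩
  ann := compAnn_subFam dq K

theorem pres1 : Pres (F.deg 1) (d0 F) (subFam (F.deg 0) (LinearMap.ker F.augLin)) :=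
  pres_of_exact (F.d_mem 0) _ F.exact_zero (d0 F) fun _ => rfl

theorem presS (i : ℕ) : Pres (F.deg (i + 2)) (dS F i) (subFam (F.deg (i + 1)) (LinearMap.ker (F.dLin i))) :=
  pres_of_exact (F.d_mem (i + 1)) _ (F.exact_succ i) (dS F i) fun _ => rfl

theorem ker_d0 : LinearMap.ker (d0 F) = LinearMap.ker (F.dLin 0) := LinearMap.ker_codRestrict _ _ _

theorem ker_dS (i : ℕ) : LinearMap.ker (dS F i) = LinearMap.ker (F.dLin (i + 1)) := LinearMap.ker_codRestrict _ _ _

theorem compAnn_natFam : CompAnn (CohB1.polyGrading r k) (natFam ℳ) := by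
  intro i y hy a ha l
  have e : GradedRing.proj (CohB1.polyGrading r k) l a = GrothLib.GrSyz.pr (l : ℤ) a := by
    refine DirectSum.Decomposition.inductionOn (CohB1.polyGrading r k)
      (motive := fun a => GradedRing.proj (CohB1.polyGrading r k) l a = GrothLib.GrSyz.pr (l : ℤ) a)
      (by simp) (fun {j} x => ?_) (fun x y hx hy => by rw [map_add, map_add, hx, hy]) a
    rcases eq_or_ne j l with rfl | hne
    · rw [GradedRing.proj_apply, DirectSum.decompose_of_mem_same _ x.2,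
        GrothLib.GrSyz.pr_of_mem (mem_stdGr_natCast.2 x.2)]
    · rw [GradedRing.proj_apply, DirectSum.decompose_of_mem_ne _ x.2 hne,
        GrothLib.GrSyz.pr_of_mem_ne (mem_stdGr_natCast.2 x.2) (by exact_mod_cast hne)]
  have h1 := GrothLib.GrSyz.mc_smul ℳ (g := (l : ℤ) + i) a hy
  rw [ha, map_zero, add_sub_cancel_right] at h1
  rw [e, ← h1]

theorem hsm_of_gradedSMul (i j : ℤ) (a : Pol k r) (m : M) (ha : a ∈ GrSyz.stdGr k (Fin (r + 1)) i) (hm : m ∈ ℳ j) :
    a • m ∈ ℳ (i + j) :=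
  SetLike.GradedSMul.smul_mem ha hm

variable [IsScalarTower k (Pol k r) M]

theorem pres0 : Pres (F.deg 0) F.augLin ℳ where
  deg_mem j v hv := by
    rw [← GrothLib.GrSyz.fc_of_freeHom _ (mem_fam.1 hv)]
    have := GrothLib.GrSyz.mc_linearCombination ℳ F.aug_mem j v
    refine Eq.mp (congrArg (· ∈ ℳ j) this) ?_
    exact SetLike.coe_mem _
  lift j m hm := by
    obtain ⟨w, rfl⟩ := F.aug_surjective m
    refine ⟨GrothLib.GrSyz.fc (F.deg 0) j w, mem_fam.2 (GrothLib.GrSyz.freeHom_fc _ _ _), ?_⟩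
    refine Eq.trans ?_ (GrothLib.GrSyz.mc_of_mem ℳ hm)
    exact (GrothLib.GrSyz.mc_linearCombination ℳ F.aug_mem j w).symm
  surj := F.aug_surjective
  ann := compAnn_natFam

theorem good_congr {b : ℕ} {deg : Fin b → ℤ} {P Q : Submodule (Pol k r) (Fin b → Pol k r)} (h : P = Q) {d : ℕ}
    (H : Good (r := r) (subFam deg P) d) : Good (r := r) (subFam deg Q) d := by subst h; exact H

theorem van_congr {b : ℕ} {deg : Fin b → ℤ} {P Q : Submodule (Pol k r) (Fin b → Pol k r)} (h : P = Q) {t : ℤ} {q : ℕ}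
    (H : Subsingleton (Coh.HH (CohB1.ProjSpace r k) (T (r := r) (natFam (subFam deg P)) t) q)) :
    Subsingleton (Coh.HH (CohB1.ProjSpace r k) (T (r := r) (natFam (subFam deg Q)) t) q) := by subst h; exact H

variable [SetLike.GradedSMul (CohB1.polyGrading r k) (natFam ℳ)]
variable (hF : F.IsMinimal (GrSyz.irrel (GrSyz.stdGr k (Fin (r + 1)))).toIdeal)

include hF in
theorem constantCoeff_ker_aug (v : Fin (F.rk 0) → Pol k r) (hv : v ∈ LinearMap.ker F.augLin) (j : Fin (F.rk 0)) :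
    constantCoeff (v j) = 0 := by
  obtain ⟨w, rfl⟩ := F.exact_zero.le hv
  rw [Matrix.mulVecLin_apply, Matrix.mulVec, dotProduct, map_sum]
  exact Finset.sum_eq_zero fun c _ => by rw [map_mul, GrothLib.GrSyz.mem_irrel.1 (hF 0 j c), zero_mul]

include hF in
theorem constantCoeff_ker_dLin (i : ℕ) (v : Fin (F.rk (i + 1)) → Pol k r) (hv : v ∈ LinearMap.ker (F.dLin i))
    (j : Fin (F.rk (i + 1))) : constantCoeff (v j) = 0 := by
  obtain ⟨w, rfl⟩ := (F.exact_succ i).le hv
  rw [Matrix.mulVecLin_apply, Matrix.mulVec, dotProduct, map_sum]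
  exact Finset.sum_eq_zero fun c _ => by rw [map_mul, GrothLib.GrSyz.mem_irrel.1 (hF (i + 1) j c), zero_mul]

include hF in
/-- A good module has a minimal resolution generated up to `d + i`. -/
theorem isGenLE_of_good (d : ℕ) (H : Good (r := r) ℳ d) : F.IsGenLE (d : ℤ) := by
  have h0 : ∀ j, F.deg 0 j ≤ (d : ℤ) :=
    Good.deg_le (pres0 F) hsm_of_gradedSMul d H (constantCoeff_ker_aug F hF)
  have H1 := H.ker (pres0 F) h0
  have h1 : ∀ j, F.deg 1 j ≤ ((d + 1 : ℕ) : ℤ) :=
    Good.deg_le (pres1 F) (fun i j a v ha hv => smul_mem_fam (deg := F.deg 0) i j a v.1 ha hv) (d + 1) H1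
      fun v hv j => constantCoeff_ker_dLin F hF 0 v ((ker_d0 F).le hv) j
  have hS : ∀ i : ℕ, Good (r := r) (subFam (F.deg (i + 1)) (LinearMap.ker (F.dLin i))) (d + i + 2) ∧
      ∀ j, F.deg (i + 1) j ≤ ((d + i + 1 : ℕ) : ℤ) := by
    intro i
    induction i with
    | zero => exact ⟨good_congr (ker_d0 F) (H1.ker (pres1 F) h1), h1⟩
    | succ i ih =>
      have h2 : ∀ j, F.deg (i + 2) j ≤ ((d + i + 2 : ℕ) : ℤ) :=
        Good.deg_le (presS F i) (fun p q a v ha hv => smul_mem_fam (deg := F.deg (i + 1)) p q a v.1 ha hv) (d + i + 2)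
          ih.1 fun v hv j => constantCoeff_ker_dLin F hF (i + 1) v ((ker_dS F i).le hv) j
      exact ⟨good_congr (ker_dS F i) (ih.1.ker (presS F i) h2), h2⟩
  intro i j
  cases i with
  | zero => simpa using h0 j
  | succ i =>
    have := (hS i).2 j
    push_cast at this ⊢
    omega

include hF in
/-- Sections of a regular module in degree `d` come from `M_d`. -/
theorem exists_secOf_of_isGenLE (d : ℕ) (hd : F.IsGenLE (d : ℤ))
    (σ : Γ(T (r := r) (natFam ℳ) ((d : ℕ) : ℤ), ⊤)) : ∃ (m : M) (hm : m ∈ natFam ℳ d), secOf (natFam ℳ) m hm = σ := by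
  have hrk : ∀ j, r + 1 < j → F.rk j = 0 := GrothLib.GrSyz.rk_eq_zero (r + 1) F.rk F.d
    (fun i a b => GrothLib.GrSyz.mem_irrel.1 (hF i a b)) F.exact_succ
  have hsyz : ∀ (m i : ℕ), r + 2 ≤ i + m → ∀ (q : ℕ), 1 ≤ q → ∀ t : ℤ, (d : ℤ) + i + 2 - q ≤ t →
      Subsingleton (Coh.HH (CohB1.ProjSpace r k)
        (T (r := r) (natFam (subFam (F.deg (i + 1)) (LinearMap.ker (F.dLin i)))) t) q) := by
    intro m
    induction m with
    | zero =>
      intro i him q hq t _
      haveI : Subsingleton (Fin (F.rk (i + 1)) → Pol k r) := by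
        haveI : IsEmpty (Fin (F.rk (i + 1))) := by rw [hrk (i + 1) (by omega)]; infer_instance
        infer_instance
      exact (subsingleton_T_iff _ t q).1 (subsingleton_Ft_tilde_of_subsingleton _ t q)
    | succ m ih =>
      intro i him q hq t ht
      refine (presS F i).van_X₃ t q hq (fun j => ?_)
        (van_congr (ker_dS F i).symm (ih (i + 1) (by omega) (q + 1) (by omega) t (by push_cast; omega)))
      have := hd (i + 2) j
      push_cast at this
      omega
  have hP : Subsingleton (Coh.HH (CohB1.ProjSpace r k)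
      (T (r := r) (natFam (subFam (F.deg 0) (LinearMap.ker F.augLin))) ((d : ℕ) : ℤ)) 1) :=
    (pres1 F).van_X₃ _ 1 le_rfl (fun j => by have := hd 1 j; push_cast at this; omega)
      (van_congr (ker_d0 F).symm (hsyz (r + 2) 0 (by omega) 2 (by omega) _ (by omega)))
  obtain ⟨τ, hτ⟩ := surjective_sections (pres0 F).isShift _ ((pres0 F).shortExact _) hP σ
  obtain ⟨v, hv, rfl⟩ := surjective_secOf_free (F.deg 0) d (fun j => by simpa using hd 0 j) τ
  exact ⟨F.augLin v, (pres0 F).deg_mem _ v hv, ((pres0 F).hex hv rfl).symm.trans hτ⟩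

/-- An element whose section vanishes is killed by powers of the variables. -/
theorem exists_pow_smul_eq_zero {e : ℕ} {m : M} (hm : m ∈ natFam ℳ e) (h : secOf (r := r) (natFam ℳ) m hm = 0)
    (l : Fin (r + 1)) : ∃ N : ℕ, (X l : Pol k r) ^ N • m = 0 := by
  let I : Ideal (Pol k r) :=
    { carrier := {a | a • m = 0}
      zero_mem' := zero_smul _ m
      add_mem' := fun {a b} ha hb => by simp only [Set.mem_setOf_eq] at ha hb ⊢; rw [add_smul, ha, hb, add_zero]
      smul_mem' := fun c a ha => by simp only [Set.mem_setOf_eq] at ha ⊢; rw [smul_assoc, ha, smul_zero] }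
  have hI : I.IsHomogeneous (CohB1.polyGrading r k) := fun j a ha => compAnn_natFam e m hm a ha j
  refine GrothLib.GrTilde.pow_mem_of_forall_prime (CohB1.polyGrading r k) hI (GrothLib.Ample.ProjMap.X_mem l) one_pos
    fun p _ => ?_
  have h' : LocalizedModule.mk m (1 : p.asHomogeneousIdeal.toIdeal.primeCompl) = 0 :=
    (congrArg (GrothLib.GrTilde.evM (⟨p, trivial⟩ : (⊤ : (Proj (CohB1.polyGrading r k)).Opens))) h).trans
      (GrothLib.GrTilde.evM_zero _)
  rw [← LocalizedModule.zero_mk (1 : p.asHomogeneousIdeal.toIdeal.primeCompl)] at h'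
  obtain ⟨⟨c, hc⟩, hc'⟩ := LocalizedModule.mk_eq.1 h'
  simp only [one_smul, Submonoid.smul_def, smul_zero] at hc'
  exact ⟨c, hc', hc⟩

omit [SetLike.GradedSMul (CohB1.polyGrading r k) (natFam ℳ)] in
/-- Torsion in a degree where `H^0` vanishes is zero. -/
theorem eq_zero_of_torsion (E : GrLC.StarInjRes (GrSyz.stdGr k (Fin (r + 1))) ℳ) {e : ℤ}
    (hH : E.Hcomp (GrSyz.irrel (GrSyz.stdGr k (Fin (r + 1)))) 0 e = ⊥) {m : M} (hm : m ∈ ℳ e)
    (ht : ∀ l : Fin (r + 1), ∃ N : ℕ, (X l : Pol k r) ^ N • m = 0) : m = 0 := by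
  have hgam : m ∈ GrLC.gam (GrSyz.irrel (GrSyz.stdGr k (Fin (r + 1)))).toIdeal M := by
    rw [← GrothLib.GrLC.hspan_varL k (r + 1)]
    exact (GrothLib.GrLC.forall_list_iff_mem_gam _ m).1 fun y hy => by
      obtain ⟨l, rfl⟩ := List.mem_ofFn.1 hy
      exact ht l
  obtain ⟨N, hN⟩ := hgam
  have hz : E.ε m ∈ E.cocyc (GrSyz.irrel (GrSyz.stdGr k (Fin (r + 1)))) 0 :=
    ⟨⟨N, fun a ha => by rw [← map_smul, hN a ha, map_zero]⟩, E.exact_zero.ge ⟨m, rfl⟩⟩
  have hmem : E.toH _ 0 ⟨_, hz⟩ ∈ E.Hcomp (GrSyz.irrel (GrSyz.stdGr k (Fin (r + 1)))) 0 e :=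
    ⟨⟨_, hz⟩, E.ε_grHom e m hm, rfl⟩
  have h0 : E.toH _ 0 ⟨_, hz⟩ = 0 := hH.le hmem
  rw [Submodule.mkQ_apply, Submodule.Quotient.mk_eq_zero] at h0
  have h1 : E.ε m = 0 := h0
  exact E.ε_injective (h1.trans (map_zero E.ε).symm)

end Res

end RegCorr27
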