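import Groth.Agent.Lib.RegCorr27.Sections
import Groth.Agent.Lib.OX.CohClass
import Groth.Agent.Lib.QCoh.SupportExact

/-!
# Short exact sequences of sheaves from homogeneous presentations; coherence
-/

set_option autoImplicit false
set_option backward.isDefEq.respectTransparency false
universe u

open AlgebraicGeometry CategoryTheory CategoryTheory.Limits MvPolynomial

noncomputable section

namespace RegCorr27

open RegTilde27

variable {k : Type u} [Field k] {r : ℕ}

theorem isCoh_free : ∀ (b : ℕ) (deg : Fin b → ℤ), Coh.IsCoh (til (r := r) (natFam (fam (k := k) (r := r) deg))) := by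
  intro b
  induction b with
  | zero => intro deg; exact GrothLib.OX.isCoh_of_isZero (isZero_tilde _)
  | succ b ih =>
    intro deg
    let f : (Fin b → Pol k r) →ₗ[Pol k r] (Fin (b + 1) → Pol k r) :=
      { toFun := fun v => Fin.cons 0 v
        map_add' := fun v w => funext fun j => by refine Fin.cases ?_ (fun l => ?_) j <;> simp
        map_smul' := fun c v => funext fun j => by refine Fin.cases ?_ (fun l => ?_) j <;> simp }
    let g : (Fin (b + 1) → Pol k r) →ₗ[Pol k r] (Fin 1 → Pol k r) := LinearMap.pi fun _ => LinearMap.proj 0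
    have hf : IsShift (natFam (fam (k := k) (r := r) (deg ∘ Fin.succ))) (natFam (fam deg)) f 0 :=
      isShift_of_forall fun j v hv => mem_fam.2 fun l => by
        refine Fin.cases ?_ (fun l => ?_) l
        · exact zero_mem _
        · exact (mem_fam.1 hv) l
    have hg : IsShift (natFam (fam (k := k) (r := r) deg)) (natFam (fam fun _ : Fin 1 => deg 0)) g 0 :=
      isShift_of_forall fun j v hv => mem_fam.2 fun _ => (mem_fam.1 hv) 0
    have hS := shortExact (𝒜 := CohB1.polyGrading r k) hf hg (n := 0) (fun v => funext fun _ => rfl)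
      (fun v w h => funext fun l => by
        have := congrFun h l.succ
        simpa [f] using this)
      (fun v h => ⟨fun l => v l.succ, funext fun l => by
        refine Fin.cases ?_ (fun l => ?_) l
        · have := congrFun h 0
          simpa [f, g] using this.symm
        · simp [f]⟩)
      (fun w => ⟨Fin.cons (w 0) 0, funext fun l => by fin_cases l; simp [g]⟩)
      (lifts_of_forall fun j v hv ⟨w, hw⟩ => ⟨w, mem_fam.2 fun l => by
        have h1 := (mem_fam.1 hv) l.succ
        rw [← hw] at h1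
        exact h1, hw⟩)
      (lifts_of_forall fun j w hw _ => ⟨Fin.cons (w 0) 0, mem_fam.2 fun l => by
        refine Fin.cases ?_ (fun l => ?_) l
        · exact (mem_fam.1 hw) 0
        · exact zero_mem _, funext fun l => by fin_cases l; simp [g]⟩)
      (compAnn_fam _)
    haveI : IsLocallyNoetherian (Proj (CohB1.polyGrading r k)) :=
      (GrothLib.CMReg.isNoetherian_projSpace (n := r) (k := k)).toIsLocallyNoetherian
    refine GrothLib.OX.isCoh_extension hS (ih (deg ∘ Fin.succ)) ?_
    obtain ⟨e⟩ := nonempty_rankOne_iso (k := k) (r := r) (fun _ : Fin 1 => deg 0)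
    exact GrothLib.QCoh.isCoh_of_iso e.symm (GrothLib.Euler.isCoh_of_isFinLocFree
      (GrothLib.Euler.isFinLocFree_of_isInvertible (GrothLib.CMReg.isInvertible_twist _)))

variable {N : Type u} [AddCommGroup N] [Module k N] [Module (Pol k r) N]
variable {b : ℕ} (deg : Fin b → ℤ) (g : (Fin b → Pol k r) →ₗ[Pol k r] N)
variable (𝒩 : ℤ → Submodule k N) [SetLike.GradedSMul (CohB1.polyGrading r k) (natFam 𝒩)]

/-- A presentation by homogeneous elements. -/
structure Pres : Prop where
  deg_mem : ∀ (j : ℤ) (v : Fin b → Pol k r), v ∈ fam deg j → g v ∈ 𝒩 j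
  lift : ∀ (j : ℤ) (m : N), m ∈ 𝒩 j → ∃ v ∈ fam deg j, g v = m
  surj : Function.Surjective g
  ann : CompAnn (CohB1.polyGrading r k) (natFam 𝒩)

theorem isShift_ker : IsShift (natFam (subFam deg (LinearMap.ker g))) (natFam (fam deg)) (LinearMap.ker g).subtype 0 :=
  isShift_of_forall fun _ _ hv => hv

variable {deg g 𝒩}

theorem Pres.isShift (P : Pres deg g 𝒩) : IsShift (natFam (fam deg)) (natFam 𝒩) g 0 :=
  isShift_of_forall fun j v hv => P.deg_mem (j : ℤ) v hv

variable (deg g) in
/-- The sequence of sheaves of a map from a free module. -/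
def seqOf (hg : IsShift (natFam (fam deg)) (natFam 𝒩) g 0) (n : ℤ) : ShortComplex (CohB1.ProjSpace r k).Modules :=
  ShortComplex.mk (map (𝒜 := CohB1.polyGrading r k) (isShift_ker deg g) (add_zero n)) (map hg (add_zero n))
    (map_comp_map_eq_zero _ _ fun v => LinearMap.mem_ker.1 v.2)

/-- The sequence of sheaves of a presentation. -/
abbrev Pres.seq (P : Pres deg g 𝒩) (n : ℤ) : ShortComplex (CohB1.ProjSpace r k).Modules := seqOf deg g P.isShift n

theorem Pres.shortExact (P : Pres deg g 𝒩) (n : ℤ) : (P.seq n).ShortExact :=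
  RegTilde27.shortExact (𝒜 := CohB1.polyGrading r k) (isShift_ker deg g) P.isShift
    (fun v => LinearMap.mem_ker.1 v.2) Subtype.val_injective (fun v hv => ⟨⟨v, LinearMap.mem_ker.2 hv⟩, rfl⟩) P.surj
    (lifts_of_forall fun j v hv ⟨w, hw⟩ => ⟨w, (by subst hw; exact hv), hw⟩)
    (lifts_of_forall fun j m hm _ => by
      obtain ⟨v, hv, hvm⟩ := P.lift (j : ℤ) m hm
      exact ⟨v, hv, hvm⟩) P.ann

theorem isCoh_X₁ {X : Scheme.{u}} [IsLocallyNoetherian X] {S : ShortComplex X.Modules} (hS : S.ShortExact)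
    (h₂ : Coh.IsCoh S.X₂) (h₃ : Coh.IsCoh S.X₃) : Coh.IsCoh S.X₁ :=
  GrothLib.QCoh.isCoh_of_iso (IsLimit.conePointUniqueUpToIso (kernelIsKernel S.g) hS.fIsKernel)
    (GrothLib.QCoh.isCoh_kernel S.g h₂ h₃)

theorem isCoh_seqOf (hg : IsShift (natFam (fam deg)) (natFam 𝒩) g 0) (hS : (seqOf deg g hg 0).ShortExact)
    (h : Coh.IsCoh (til (r := r) (natFam 𝒩))) :
    Coh.IsCoh (til (r := r) (natFam (subFam deg (LinearMap.ker g)))) :=
  isCoh_X₁ (X := CohB1.ProjSpace r k) (S := seqOf deg g hg 0) hS (isCoh_free b deg) h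

theorem Pres.isCoh_ker (P : Pres deg g 𝒩) (h : Coh.IsCoh (til (r := r) (natFam 𝒩))) :
    Coh.IsCoh (til (r := r) (natFam (subFam deg (LinearMap.ker g)))) :=
  isCoh_seqOf P.isShift (P.shortExact 0) h

/-- Two presentations show coherence. -/
theorem Pres.isCoh (P : Pres deg g 𝒩) {b' : ℕ} {deg' : Fin b' → ℤ}
    {g' : (Fin b' → Pol k r) →ₗ[Pol k r] LinearMap.ker g} (P' : Pres deg' g' (subFam deg (LinearMap.ker g))) :
    Coh.IsCoh (til (r := r) (natFam 𝒩)) := by
  haveI : Epi (P'.seq 0).g := (P'.shortExact 0).epi_g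
  exact GrothLib.QCoh.isCoh_of_iso
    (cokernelEpiComp (P'.seq 0).g (P.seq 0).f ≪≫
      IsColimit.coconePointUniqueUpToIso (cokernelIsCokernel (P.seq 0).f) (P.shortExact 0).gIsCokernel)
    (GrothLib.QCoh.isCoh_cokernel _ (isCoh_free b' deg') (isCoh_free b deg))

/-- Exactness when the map is surjective only up to homogeneous factors invertible at each point. -/
theorem shortExact_of_range {R A : Type u} [CommRing R] [CommRing A] [Algebra R A] {𝒜 : ℕ → Submodule R A}
    [GradedAlgebra 𝒜] {M : Type u} [AddCommGroup M] [Module R M] [Module A M] {ℳ : ℕ → Submodule R M}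
    [SetLike.GradedSMul 𝒜 ℳ] {M' : Type u} [AddCommGroup M'] [Module R M'] [Module A M'] {ℳ' : ℕ → Submodule R M'}
    [SetLike.GradedSMul 𝒜 ℳ'] {M'' : Type u} [AddCommGroup M''] [Module R M''] [Module A M'']
    {ℳ'' : ℕ → Submodule R M''} [SetLike.GradedSMul 𝒜 ℳ''] {f : M' →ₗ[A] M} {g : M →ₗ[A] M''}
    (hf : IsShift ℳ' ℳ f 0) (hg : IsShift ℳ ℳ'' g 0) {n : ℤ}
    (hfg : ∀ m, g (f m) = 0) (hinj : Function.Injective f) (hex : ∀ m, g m = 0 → m ∈ LinearMap.range f)
    (hrange : ∀ (y : ProjectiveSpectrum 𝒜) (p : ℕ) (a : M''), a ∈ ℳ'' p →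
      ∃ (l : ℕ) (v : A), v ∈ 𝒜 l ∧ v ∉ y.asHomogeneousIdeal ∧ v • a ∈ LinearMap.range g)
    (hliftf : Lifts 𝒜 ℳ' ℳ f 0) (hliftg : Lifts 𝒜 ℳ ℳ'' g 0) (hann : CompAnn 𝒜 ℳ'') :
    (ShortComplex.mk (map (𝒜 := 𝒜) hf (add_zero n)) (map hg (add_zero n))
      (map_comp_map_eq_zero hf hg hfg)).ShortExact := by
  refine shortExact_of_local _ (injective_app hf (add_zero n) hinj) (fun U σ hσ y hy => ?_) fun U σ y hy => ?_
  · refine exists_lift hf (add_zero n) hliftf σ hy fun p q a s ha hs hsy he => ?_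
    have h0 := congrArg (GrothLib.GrTilde.evM (⟨y, hy⟩ : U)) hσ
    rw [map_app hg (add_zero n), evM_mapSect, he, locLin_mk, GrothLib.GrTilde.evM_zero,
      ← LocalizedModule.zero_mk (1 : y.asHomogeneousIdeal.toIdeal.primeCompl)] at h0
    obtain ⟨⟨b, hb⟩, hb'⟩ := LocalizedModule.mk_eq.1 h0
    simp only [one_smul, smul_zero, Submonoid.smul_def] at hb'
    rcases hg p a ha with h1 | ⟨p', -, hm⟩
    · exact ⟨0, 1, SetLike.GradedOne.one_mem, fun h1' => y.isPrime.ne_top ((Ideal.eq_top_iff_one _).2 h1'),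
        by rw [one_smul]; exact hex a h1⟩
    · obtain ⟨l, v, hv, hvy, hv0⟩ := exists_hom_ann hann y hm hb hb'
      exact ⟨l, v, hv, hvy, hex _ (by rw [map_smul, hv0])⟩
  · exact exists_lift hg (add_zero n) hliftg σ hy fun p q a s ha _ _ _ => hrange y p a ha

end RegCorr27
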