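import Groth.Agent.Lib.RegCorr27.Pres
import Groth.Agent.Lib.GrSyz.Hilbert
import Groth.Agent.Lib.CMReg.ProjSpace

/-!
# The regularity step: generation, and passage to the kernel of a presentation
-/

set_option autoImplicit false
set_option backward.isDefEq.respectTransparency false
universe u

open AlgebraicGeometry CategoryTheory CategoryTheory.Limits MvPolynomial TopologicalSpace
open GrothLib.GrTilde (evM evM_ext)
open GrothLib.InvExt (mres)

noncomputable section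

namespace RegCorr27

open RegTilde27

variable {k : Type u} [Field k] {r : ℕ}
variable {N : Type u} [AddCommGroup N] [Module k N] [Module (Pol k r) N]

/-- The sheaf side of `d`-regularity. -/
structure Good (𝒩 : ℤ → Submodule k N) [SetLike.GradedSMul (CohB1.polyGrading r k) (natFam 𝒩)] (d : ℕ) : Prop where
  coh : Coh.IsCoh (til (r := r) (natFam 𝒩))
  van : ∀ (i : ℕ), 1 ≤ i → ∀ t : ℤ, (d : ℤ) - i ≤ t →
    Subsingleton (Coh.HH (CohB1.ProjSpace r k) (T (r := r) (natFam 𝒩) t) i)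
  surj : ∀ σ : Γ(T (r := r) (natFam 𝒩) ((d : ℕ) : ℤ), ⊤), ∃ (m : N) (hm : m ∈ natFam 𝒩 d), secOf (natFam 𝒩) m hm = σ
  inj : ∀ e : ℕ, d < e → ∀ (m : N) (hm : m ∈ natFam 𝒩 e), secOf (r := r) (natFam 𝒩) m hm = 0 → m = 0

theorem van_of_regular (𝒩 : ℤ → Submodule k N) [SetLike.GradedSMul (CohB1.polyGrading r k) (natFam 𝒩)] (d : ℤ)
    (hcoh : Coh.IsCoh (til (r := r) (natFam 𝒩)))
    (h : ∀ i : ℕ, 1 ≤ i → i ≤ r → Subsingleton (Coh.HH (CohB1.ProjSpace r k) (T (r := r) (natFam 𝒩) (d - i)) i))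
    (i : ℕ) (hi : 1 ≤ i) (t : ℤ) (ht : d - i ≤ t) :
    Subsingleton (Coh.HH (CohB1.ProjSpace r k) (T (r := r) (natFam 𝒩) t) i) :=
  (subsingleton_T_iff _ t i).1 (GrothLib.CMReg.propagate hcoh d
    (fun j h1 h2 => (subsingleton_T_iff _ _ j).2 (h j h1 h2)) i t hi ht)

instance finite_fam {b : ℕ} (deg : Fin b → ℤ) (j : ℤ) : Module.Finite k (fam (k := k) (r := r) deg j) :=
  Module.Finite.of_injective
    (LinearMap.pi fun l : Fin b =>
      LinearMap.codRestrict (GrSyz.stdGr k (Fin (r + 1)) (j - deg l))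
        (((LinearMap.proj (R := k) (φ := fun _ : Fin b => Pol k r) l)).comp (fam (k := k) (r := r) deg j).subtype)
        fun v => (mem_fam.1 v.2) l)
    fun v w h => Subtype.ext (funext fun l => congrArg Subtype.val (congrFun h l))

variable {b : ℕ} {deg : Fin b → ℤ} {g : (Fin b → Pol k r) →ₗ[Pol k r] N}
variable {𝒩 : ℤ → Submodule k N} [SetLike.GradedSMul (CohB1.polyGrading r k) (natFam 𝒩)]

theorem Pres.hex (P : Pres deg g 𝒩) {e : ℕ} {σ : Γ(T (r := r) (natFam (fam (k := k) (r := r) deg)) (e : ℤ), ⊤)}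
    {v : Fin b → Pol k r} (hv : v ∈ natFam (fam (k := k) (r := r) deg) e) (h : secOf _ v hv = σ) :
    (map (𝒜 := CohB1.polyGrading r k) P.isShift (add_zero (e : ℤ))).app ⊤ σ =
      secOf (natFam 𝒩) (g v) (P.deg_mem (e : ℤ) v hv) := by
  subst h
  exact map_secOf _ _ P.isShift v hv _

theorem vanKer_one {b' : ℕ} {deg' : Fin b' → ℤ} {g' : (Fin b' → Pol k r) →ₗ[Pol k r] N}
    (hg : IsShift (natFam (fam (k := k) (r := r) deg')) (natFam 𝒩) g' 0) (n : ℤ)
    (hS : (seqOf deg' g' hg n).ShortExact)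
    (hsurj : Function.Surjective ((map (𝒜 := CohB1.polyGrading r k) hg (add_zero n)).app ⊤))
    (h₂ : Subsingleton (Coh.HH (CohB1.ProjSpace r k) (T (r := r) (natFam (fam (k := k) (r := r) deg')) n) 1)) :
    Subsingleton (Coh.HH (CohB1.ProjSpace r k) (T (r := r) (natFam (subFam deg' (LinearMap.ker g'))) n) 1) :=
  have h' : Subsingleton (Coh.HH (CohB1.ProjSpace r k) (seqOf deg' g' hg n).X₂ 1) := h₂
  have h'' : Function.Surjective ((seqOf deg' g' hg n).g.app ⊤) := hsurj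
  subsingleton_X₁_one (X := CohB1.ProjSpace r k) (S := seqOf deg' g' hg n) hS h'' h'

theorem vanKer_succ {b' : ℕ} {deg' : Fin b' → ℤ} {g' : (Fin b' → Pol k r) →ₗ[Pol k r] N}
    (hg : IsShift (natFam (fam (k := k) (r := r) deg')) (natFam 𝒩) g' 0) (n : ℤ) (q : ℕ)
    (hS : (seqOf deg' g' hg n).ShortExact)
    (h₃ : Subsingleton (Coh.HH (CohB1.ProjSpace r k) (T (r := r) (natFam 𝒩) n) q))
    (h₂ : Subsingleton (Coh.HH (CohB1.ProjSpace r k) (T (r := r) (natFam (fam (k := k) (r := r) deg')) n) (q + 1))) :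
    Subsingleton (Coh.HH (CohB1.ProjSpace r k) (T (r := r) (natFam (subFam deg' (LinearMap.ker g'))) n) (q + 1)) :=
  have h' : Subsingleton (Coh.HH (CohB1.ProjSpace r k) (seqOf deg' g' hg n).X₂ (q + 1)) := h₂
  have h'' : Subsingleton (Coh.HH (CohB1.ProjSpace r k) (seqOf deg' g' hg n).X₃ q) := h₃
  GrothLib.CMReg.subsingleton_X₁_succ (X := CohB1.ProjSpace r k) (S := seqOf deg' g' hg n) hS h'' h'

theorem surjective_sections {b' : ℕ} {deg' : Fin b' → ℤ} {g' : (Fin b' → Pol k r) →ₗ[Pol k r] N}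
    (hg : IsShift (natFam (fam (k := k) (r := r) deg')) (natFam 𝒩) g' 0) (n : ℤ)
    (hS : (seqOf deg' g' hg n).ShortExact)
    (h₁ : Subsingleton (Coh.HH (CohB1.ProjSpace r k) (T (r := r) (natFam (subFam deg' (LinearMap.ker g'))) n) 1)) :
    Function.Surjective ((map (𝒜 := CohB1.polyGrading r k) hg (add_zero n)).app ⊤) :=
  have h' : Subsingleton (Coh.HH (CohB1.ProjSpace r k) (seqOf deg' g' hg n).X₁ 1) := h₁
  GrothLib.CMReg.surjective_app_top (X := CohB1.ProjSpace r k) (S := seqOf deg' g' hg n) hS h'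

/-- Passing to the kernel raises the bound by one. -/
theorem Good.ker {d : ℕ} (H : Good (r := r) 𝒩 d) (P : Pres deg g 𝒩) (hdeg : ∀ j, deg j ≤ (d : ℤ)) :
    Good (r := r) (subFam deg (LinearMap.ker g)) (d + 1) := by
  have hcoh := P.isCoh_ker H.coh
  refine ⟨hcoh, fun i hi t ht => van_of_regular _ ((d + 1 : ℕ) : ℤ) hcoh (fun j h1 _ => ?_) i hi t ht,
    fun σ => ?_, fun e _ v hv h => eq_zero_of_secOf_eq_zero deg _ hv h⟩
  · have hS := P.shortExact (((d + 1 : ℕ) : ℤ) - j)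
    have h₂ : ∀ q : ℕ, 1 ≤ q → j ≤ q + 1 → Subsingleton (Coh.HH (CohB1.ProjSpace r k)
        (T (r := r) (natFam (fam (k := k) (r := r) deg)) (((d + 1 : ℕ) : ℤ) - j)) q) := fun q hq hq' =>
      subsingleton_T_free deg _ q hq fun l => by have := hdeg l; omega
    rcases Nat.lt_or_ge j 2 with hj | hj
    · obtain rfl : j = 1 := by omega
      refine vanKer_one P.isShift _ hS (fun σ => ?_) (h₂ 1 le_rfl (by omega))
      have e1 : ((d + 1 : ℕ) : ℤ) - ((1 : ℕ) : ℤ) = (d : ℤ) := by omega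
      revert σ
      generalize ((d + 1 : ℕ) : ℤ) - ((1 : ℕ) : ℤ) = n at e1
      subst e1
      intro σ
      obtain ⟨m, hm, rfl⟩ := H.surj σ
      obtain ⟨v, hv, rfl⟩ := P.lift (d : ℤ) m hm
      exact ⟨secOf (natFam (fam (k := k) (r := r) deg)) v hv, P.hex hv rfl⟩
    · obtain ⟨q, rfl⟩ : ∃ q, j = q + 1 := ⟨j - 1, by omega⟩
      exact vanKer_succ P.isShift _ q hS (H.van q (by omega) _ (by omega)) (h₂ (q + 1) h1 (by omega))
  · obtain ⟨v, hv, hvσ⟩ := surjective_secOf_free deg (d + 1) (fun j => by have := hdeg j; omega)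
      ((map (𝒜 := CohB1.polyGrading r k) (isShift_ker deg g) (add_zero (((d + 1 : ℕ) : ℤ)))).app ⊤ σ)
    have hz : g v = 0 := by
      refine H.inj (d + 1) (Nat.lt_succ_self d) (g v) (P.deg_mem _ v hv) ?_
      refine (P.hex hv hvσ).symm.trans ?_
      exact congrArg (fun φ => φ.app ⊤ σ) (P.seq (((d + 1 : ℕ) : ℤ))).zero
    refine ⟨⟨v, LinearMap.mem_ker.2 hz⟩, hv,
      injective_app (isShift_ker deg g) (add_zero _) Subtype.val_injective ⊤ ?_⟩
    exact (map_secOf _ _ (isShift_ker deg g) _ _ hv).trans hvσ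

section Gen

variable (P : Pres deg g 𝒩) (hsm : ∀ (i j : ℤ) (a : Pol k r) (m : N), a ∈ GrSyz.stdGr k (Fin (r + 1)) i →
  m ∈ 𝒩 j → a • m ∈ 𝒩 (i + j))
variable (d : ℕ) {c : ℕ} (w : Fin c → fam (k := k) (r := r) deg (d : ℤ))

/-- The map from a free module generated in degree `d`. -/
def genMap : (Fin c → Pol k r) →ₗ[Pol k r] N :=
  g.comp (∑ l : Fin c, LinearMap.smulRight (LinearMap.proj (R := Pol k r) (φ := fun _ : Fin c => Pol k r) l) (w l).1)

theorem genMap_apply (v : Fin c → Pol k r) : genMap (g := g) d w v = g (∑ l, v l • (w l).1) := by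
  simp [genMap]

include P hsm in
theorem genMap_mem (j : ℤ) (v : Fin c → Pol k r) (hv : v ∈ fam (fun _ : Fin c => (d : ℤ)) j) :
    genMap (g := g) d w v ∈ 𝒩 j := by
  rw [genMap_apply, map_sum]
  refine sum_mem fun l _ => ?_
  rw [map_smul]
  have h := hsm (j - d) (d : ℤ) _ _ ((mem_fam.1 hv) l) (P.deg_mem _ _ (w l).2)
  rwa [sub_add_cancel] at h

/-- A homogeneous fraction with numerator in the submodule generated in degree `d`. -/
def IsGenFrac {W : (Proj (CohB1.polyGrading r k)).Opens} (y : W)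
    (μ : Γ(T (r := r) (natFam 𝒩) ((d : ℕ) : ℤ), W)) : Prop :=
  ∃ (l : ℕ) (t : Pol k r) (_ : t ∈ CohB1.polyGrading r k l) (ht : t ∉ y.1.asHomogeneousIdeal)
    (v : Fin c → Pol k r), v ∈ fam (fun _ : Fin c => (d : ℤ)) ((l + d : ℕ) : ℤ) ∧
      evM y μ = LocalizedModule.mk (genMap (g := g) d w v) ⟨t, ht⟩

theorem isGenFrac_zero {W : (Proj (CohB1.polyGrading r k)).Opens} (y : W) :
    IsGenFrac (g := g) (𝒩 := 𝒩) d w y 0 :=
  ⟨0, 1, SetLike.GradedOne.one_mem, one_notMem y.1, 0, zero_mem _, by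
    rw [GrothLib.GrTilde.evM_zero, map_zero, LocalizedModule.zero_mk]⟩

theorem isGenFrac_add {W : (Proj (CohB1.polyGrading r k)).Opens} (y : W)
    {μ μ' : Γ(T (r := r) (natFam 𝒩) ((d : ℕ) : ℤ), W)} (h : IsGenFrac (g := g) d w y μ)
    (h' : IsGenFrac (g := g) d w y μ') : IsGenFrac (g := g) d w y (μ + μ') := by
  obtain ⟨l, t, htl, ht, v, hv, e⟩ := h
  obtain ⟨l', t', htl', ht', v', hv', e'⟩ := h'
  refine ⟨l + l', t * t', SetLike.mul_mem_graded htl htl', GrothLib.GrTilde.mem_basicOpen_mul.2 ⟨ht, ht'⟩,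
    t' • v + t • v', add_mem ?_ ?_, ?_⟩
  · have := smul_mem_fam (deg := fun _ : Fin c => (d : ℤ)) (l' : ℤ) ((l + d : ℕ) : ℤ) t' v
      (mem_stdGr_natCast.2 htl') hv
    rwa [show (l' : ℤ) + ((l + d : ℕ) : ℤ) = ((l + l' + d : ℕ) : ℤ) by push_cast; ring] at this
  · have := smul_mem_fam (deg := fun _ : Fin c => (d : ℤ)) (l : ℤ) ((l' + d : ℕ) : ℤ) t v'
      (mem_stdGr_natCast.2 htl) hv'
    rwa [show (l : ℤ) + ((l' + d : ℕ) : ℤ) = ((l + l' + d : ℕ) : ℤ) by push_cast; ring] at this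
  · rw [GrothLib.GrTilde.evM_add, e, e', LocalizedModule.mk_add_mk, map_add, map_smul, map_smul]
    rfl

theorem isGenFrac_smul {W : (Proj (CohB1.polyGrading r k)).Opens} (y : W) (a : Γ(Proj (CohB1.polyGrading r k), W))
    {μ : Γ(T (r := r) (natFam 𝒩) ((d : ℕ) : ℤ), W)} (h : IsGenFrac (g := g) d w y μ) :
    IsGenFrac (g := g) d w y (a • μ) := by
  obtain ⟨l, t, htl, ht, v, hv, e⟩ := h
  obtain ⟨⟨i, ⟨a', ha'⟩, ⟨t', ht'⟩, htp⟩, ha⟩ :=
    HomogeneousLocalization.mk_surjective ((show Twist.O (Opposite.op W) from a).1 y)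
  refine ⟨i + l, t' * t, SetLike.mul_mem_graded ht' htl, GrothLib.GrTilde.mem_basicOpen_mul.2 ⟨htp, ht⟩,
    a' • v, ?_, ?_⟩
  · have := smul_mem_fam (deg := fun _ : Fin c => (d : ℤ)) (i : ℤ) ((l + d : ℕ) : ℤ) a' v
      (mem_stdGr_natCast.2 ha') hv
    rwa [show (i : ℤ) + ((l + d : ℕ) : ℤ) = ((i + l + d : ℕ) : ℤ) by push_cast; ring] at this
  · rw [GrothLib.GrTilde.evM_smul, e, map_smul]
    show ((show Twist.O (Opposite.op W) from a).1 y).val • _ = _
    rw [← ha, HomogeneousLocalization.val_mk, LocalizedModule.mk_smul_mk]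
    rfl

include P hsm in
theorem exists_frac_mem (H : Good (r := r) 𝒩 d)
    (hw : Submodule.span k (Set.range w) = ⊤) (y : ProjectiveSpectrum (CohB1.polyGrading r k)) (p : ℕ) (a : N)
    (ha : a ∈ natFam 𝒩 p) :
    ∃ (l : ℕ) (v : Pol k r), v ∈ CohB1.polyGrading r k l ∧ v ∉ y.asHomogeneousIdeal ∧
      ∃ u ∈ fam (fun _ : Fin c => (d : ℤ)) ((l + p : ℕ) : ℤ), genMap (g := g) d w u = v • a := by
  obtain ⟨x, hx, hxy⟩ := GrothLib.CMReg.h1 (n := r) (k := k) y
  have hxd : x ^ d ∈ CohB1.polyGrading r k d := by simpa [smul_eq_mul] using SetLike.pow_mem_graded d hx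
  have hxp : x ^ p ∈ CohB1.polyGrading r k p := by simpa [smul_eq_mul] using SetLike.pow_mem_graded p hx
  let O : (Proj (CohB1.polyGrading r k)).Opens := Proj.basicOpen (CohB1.polyGrading r k) x
  let μ : Γ(T (r := r) (natFam 𝒩) ((d : ℕ) : ℤ), O) :=
    GrothLib.GrTilde.fracM (x ^ d • a) (x ^ p) (SetLike.GradedSMul.smul_mem hxd ha) hxp
      (fun z h => z.2 (z.1.isPrime.mem_of_pow_mem _ h))
      (Or.inl (show ((d + p : ℕ) : ℤ) = (p : ℤ) + (d : ℤ) by push_cast; ring))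
  obtain ⟨e⟩ := GrothLib.GrTilde.nonempty_tensor_iso (𝒜 := CohB1.polyGrading r k) (ℳ := natFam 𝒩)
    GrothLib.CMReg.h1 (zero_add ((d : ℕ) : ℤ))
  have hsp : GrothLib.CMReg.Spanned (T (r := r) (natFam 𝒩) ((d : ℕ) : ℤ)) :=
    (GrothLib.CMReg.spanned_of_regular H.coh (d : ℤ)
      (fun i hi _ => (subsingleton_T_iff _ _ i).2 (H.van i hi _ le_rfl)) (d : ℤ) le_rfl).of_iso e
  obtain ⟨W, hW, hyW, hs⟩ := hsp O μ y hxy
  have key : ∀ ν, ν ∈ Submodule.span Γ(Proj (CohB1.polyGrading r k), W)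
      (Set.range fun s : Γ(T (r := r) (natFam 𝒩) ((d : ℕ) : ℤ), ⊤) => mres _ (le_top : W ≤ ⊤) s) →
      IsGenFrac (g := g) d w ⟨y, hyW⟩ ν := by
    intro ν hν
    induction hν using Submodule.span_induction with
    | mem z hz =>
      obtain ⟨s, rfl⟩ := hz
      obtain ⟨m, hm, rfl⟩ := H.surj s
      obtain ⟨v₀, hv₀, rfl⟩ := P.lift (d : ℤ) m hm
      obtain ⟨q, hq⟩ := (Submodule.mem_span_range_iff_exists_fun k).1
        (hw.ge (Submodule.mem_top : (⟨v₀, hv₀⟩ : fam (k := k) (r := r) deg (d : ℤ)) ∈ (⊤ : Submodule k _)))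
      refine ⟨0, 1, SetLike.GradedOne.one_mem, one_notMem _, fun l => C (q l), mem_fam.2 fun l => ?_, ?_⟩
      · rw [Nat.zero_add, sub_self]
        exact GrothLib.GrSyz.C_mem (q l)
      · have hsum : ∑ l, (C (q l) : Pol k r) • (w l).1 = v₀ := by
          refine Eq.trans ?_ (congrArg Subtype.val hq)
          rw [AddSubmonoidClass.coe_finsetSum]
          refine Finset.sum_congr rfl fun l _ => ?_
          rw [← MvPolynomial.algebraMap_eq, algebraMap_smul]
          rfl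
        rw [GrothLib.GrTilde.evM_mres, evM_secOf, genMap_apply, hsum]
        rfl
    | zero => exact isGenFrac_zero d w _
    | add z z' _ _ hz hz' => exact isGenFrac_add d w _ hz hz'
    | smul a' z _ hz => exact isGenFrac_smul d w _ a' hz
  obtain ⟨l, t, htl, ht, v, hv, ev⟩ := key _ hs
  rw [GrothLib.GrTilde.evM_mres, GrothLib.GrTilde.evM_fracM] at ev
  obtain ⟨⟨a₀, ha₀⟩, ha₀'⟩ := LocalizedModule.mk_eq.1 ev
  simp only [Submonoid.smul_def] at ha₀'
  have h0 : a₀ • (t • x ^ d • a - x ^ p • genMap (g := g) d w v) = 0 := by rw [smul_sub, ha₀', sub_self]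
  have hmem : t • x ^ d • a - x ^ p • genMap (g := g) d w v ∈ natFam 𝒩 (l + (d + p)) := by
    refine sub_mem (SetLike.GradedSMul.smul_mem htl (SetLike.GradedSMul.smul_mem hxd ha)) ?_
    have hgm : genMap (g := g) d w v ∈ natFam 𝒩 (l + d) := genMap_mem P hsm d w _ v hv
    have h : x ^ p • genMap (g := g) d w v ∈ natFam 𝒩 (p + (l + d)) := SetLike.GradedSMul.smul_mem hxp hgm
    rwa [show p + (l + d) = l + (d + p) by omega] at h
  obtain ⟨l', v', hv', hv'y, h0'⟩ := exists_hom_ann P.ann y hmem ha₀ h0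
  rw [smul_sub, sub_eq_zero] at h0'
  refine ⟨l' + l + d, v' * t * x ^ d, SetLike.mul_mem_graded (SetLike.mul_mem_graded hv' htl) hxd,
    GrothLib.GrTilde.mem_basicOpen_mul.2 ⟨GrothLib.GrTilde.mem_basicOpen_mul.2 ⟨hv'y, ht⟩,
      fun h => hxy (y.isPrime.mem_of_pow_mem _ h)⟩, (v' * x ^ p) • v, ?_, ?_⟩
  · have := smul_mem_fam (deg := fun _ : Fin c => (d : ℤ)) ((l' + p : ℕ) : ℤ) ((l + d : ℕ) : ℤ) (v' * x ^ p) v
      (mem_stdGr_natCast.2 (SetLike.mul_mem_graded hv' hxp)) hv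
    rwa [show ((l' + p : ℕ) : ℤ) + ((l + d : ℕ) : ℤ) = ((l' + l + d + p : ℕ) : ℤ) by push_cast; ring] at this
  · rw [map_smul, mul_smul, mul_smul, mul_smul, h0']

include P hsm in
/-- Everything above degree `d` is generated in degree `d`. -/
theorem exists_gen (H : Good (r := r) 𝒩 d) (hw : Submodule.span k (Set.range w) = ⊤) (e : ℕ) (he : d < e) (m : N)
    (hm : m ∈ natFam 𝒩 e) :
    ∃ v ∈ fam (fun _ : Fin c => (d : ℤ)) (e : ℤ), genMap (g := g) d w v = m := by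
  let degc : Fin c → ℤ := fun _ => (d : ℤ)
  let π := genMap (g := g) d w
  have hshift : IsShift (natFam (fam degc)) (natFam 𝒩) π 0 :=
    isShift_of_forall fun j v hv => genMap_mem P hsm d w (j : ℤ) v hv
  have hfrac := exists_frac_mem P hsm d w H hw
  have hlift : Lifts (CohB1.polyGrading r k) (natFam (fam degc)) (natFam 𝒩) π 0 := by
    intro y i' m' hm' _
    obtain ⟨l, v, hv, hvy, u, hu, hπ⟩ := hfrac y i' m' hm'
    exact ⟨l, v, l + i', u, hv, hvy, hu, by push_cast; ring, hπ⟩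
  have hrange : ∀ (y : ProjectiveSpectrum (CohB1.polyGrading r k)) (p : ℕ) (a : N), a ∈ natFam 𝒩 p →
      ∃ (l : ℕ) (v : Pol k r), v ∈ CohB1.polyGrading r k l ∧ v ∉ y.asHomogeneousIdeal ∧ v • a ∈ LinearMap.range π := by
    intro y p a ha
    obtain ⟨l, v, hv, hvy, u, -, hπ⟩ := hfrac y p a ha
    exact ⟨l, v, hv, hvy, u, hπ⟩
  have hS : ∀ n : ℤ, (seqOf degc π hshift n).ShortExact := fun n =>
    shortExact_of_range (isShift_ker degc π) hshift (fun v => LinearMap.mem_ker.1 v.2) Subtype.val_injective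
      (fun v hv => ⟨⟨v, LinearMap.mem_ker.2 hv⟩, rfl⟩) hrange
      (lifts_of_forall fun j v hv ⟨u, hu⟩ => ⟨u, (by subst hu; exact hv), hu⟩) hlift P.ann
  have hcoh : Coh.IsCoh (til (r := r) (natFam (subFam degc (LinearMap.ker π)))) :=
    isCoh_seqOf hshift (hS 0) H.coh
  have hvan := van_of_regular _ ((d + 1 : ℕ) : ℤ) hcoh fun j h1 _ => by
    have h₂ : ∀ q : ℕ, 1 ≤ q → j ≤ q + 1 → Subsingleton (Coh.HH (CohB1.ProjSpace r k)
        (T (r := r) (natFam (fam (k := k) (r := r) degc)) (((d + 1 : ℕ) : ℤ) - j)) q) := fun q hq hq' =>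
      subsingleton_T_free degc _ q hq fun l => by simp only [degc]; omega
    rcases Nat.lt_or_ge j 2 with hj | hj
    · obtain rfl : j = 1 := by omega
      refine vanKer_one hshift _ (hS _) (fun σ => ?_) (h₂ 1 le_rfl (by omega))
      have e1 : ((d + 1 : ℕ) : ℤ) - ((1 : ℕ) : ℤ) = (d : ℤ) := by omega
      revert σ
      generalize ((d + 1 : ℕ) : ℤ) - ((1 : ℕ) : ℤ) = n at e1
      subst e1
      intro σ
      obtain ⟨m', hm', rfl⟩ := H.surj σ
      obtain ⟨v₀, hv₀, rfl⟩ := P.lift (d : ℤ) m' hm'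
      obtain ⟨q, hq⟩ := (Submodule.mem_span_range_iff_exists_fun k).1
        (hw.ge (Submodule.mem_top : (⟨v₀, hv₀⟩ : fam (k := k) (r := r) deg (d : ℤ)) ∈ (⊤ : Submodule k _)))
      have hsum : π (fun l => (C (q l) : Pol k r)) = g v₀ := by
        rw [genMap_apply]
        refine congrArg g (Eq.trans ?_ (congrArg Subtype.val hq))
        rw [AddSubmonoidClass.coe_finsetSum]
        refine Finset.sum_congr rfl fun l _ => ?_
        rw [← MvPolynomial.algebraMap_eq, algebraMap_smul]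
        rfl
      have hC : (fun l => (C (q l) : Pol k r)) ∈ natFam (fam degc) d := mem_fam.2 fun l => by
        simp only [degc, sub_self]
        exact GrothLib.GrSyz.C_mem (q l)
      refine ⟨secOf (natFam (fam degc)) _ hC,
        (map_secOf _ _ hshift _ hC (genMap_mem P hsm d w _ _ hC)).trans ?_⟩
      exact secOf_congr (natFam 𝒩) hsum _ _
    · obtain ⟨q, rfl⟩ : ∃ q, j = q + 1 := ⟨j - 1, by omega⟩
      exact vanKer_succ hshift _ q (hS _) (H.van q (by omega) _ (by omega)) (h₂ (q + 1) h1 (by omega))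
  obtain ⟨τ, hτ⟩ := surjective_sections hshift (e : ℤ) (hS _) (hvan 1 le_rfl _ (by omega)) (secOf (natFam 𝒩) m hm)
  obtain ⟨v, hv, rfl⟩ := surjective_secOf_free degc e (fun _ => by simp only [degc]; omega) τ
  refine ⟨v, hv, sub_eq_zero.1 (H.inj e he _ (sub_mem (genMap_mem P hsm d w _ v hv) hm) ?_)⟩
  have hmap := (map_secOf _ _ hshift v hv (genMap_mem P hsm d w _ v hv)).symm.trans hτ
  refine evM_ext fun y => ?_
  have h1 := congrArg (evM y) hmap
  rw [evM_secOf, evM_secOf] at h1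
  rw [evM_secOf, GrothLib.GrTilde.evM_zero, ← LocalizedModule.mkLinearMap_apply, map_sub,
    LocalizedModule.mkLinearMap_apply, LocalizedModule.mkLinearMap_apply]
  exact sub_eq_zero.2 h1

include P hsm in
/-- A minimal presentation of a good module is generated up to degree `d`. -/
theorem Good.deg_le (H : Good (r := r) 𝒩 d)
    (hmin : ∀ v ∈ LinearMap.ker g, ∀ j, constantCoeff (v j) = 0) (j : Fin b) : deg j ≤ (d : ℤ) := by
  by_contra hlt
  obtain ⟨e, he⟩ : ∃ e : ℕ, (e : ℤ) = deg j := ⟨(deg j).toNat, by omega⟩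
  obtain ⟨c, w, hw⟩ : ∃ (c : ℕ) (w : Fin c → fam (k := k) (r := r) deg (d : ℤ)), Submodule.span k (Set.range w) = ⊤ :=
    ⟨_, Module.finBasis k _, (Module.finBasis k (fam (k := k) (r := r) deg (d : ℤ))).span_eq⟩
  classical
  have hsingle : (Pi.single j 1 : Fin b → Pol k r) ∈ fam (k := k) (r := r) deg (e : ℤ) := mem_fam.2 fun l => by
    rcases eq_or_ne l j with rfl | hne
    · rw [Pi.single_eq_same, he, sub_self]
      exact SetLike.GradedOne.one_mem
    · rw [Pi.single_eq_of_ne hne]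
      exact zero_mem _
  obtain ⟨v, hv, hgv⟩ := exists_gen P hsm d w H hw e (by omega) _ (P.deg_mem _ _ hsingle)
  have hker : (Pi.single j 1 - ∑ l, v l • (w l).1 : Fin b → Pol k r) ∈ LinearMap.ker g := by
    rw [LinearMap.mem_ker, map_sub, ← genMap_apply, hgv, sub_self]
  have h := hmin _ hker j
  rw [Pi.sub_apply, map_sub, Pi.single_eq_same, map_one, Finset.sum_apply, map_sum, Finset.sum_eq_zero, sub_zero] at h
  · exact one_ne_zero h
  · intro l _
    rw [Pi.smul_apply, smul_eq_mul, map_mul,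
      GrothLib.GrSyz.constantCoeff_of_mem (g := (e : ℤ) - d) (by omega) ((mem_fam.1 hv) l), zero_mul]

end Gen

end RegCorr27
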